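import Groth.Agent.H4Frob.RegularFlat
import Groth.Agent.H4Matlis.Hull
import Groth.Agent.H4Matlis.Duality
import Groth.Agent.H4DR.FlatBC.Polynomial
import Groth.Agent.H02CA.GorRing
import Groth.Agent.H4Goren.DoubleAnn
import Groth.Agent.H4Depth.Regular
import Mathlib.RingTheory.TensorProduct.Quotient
import Mathlib.RingTheory.Regular.Flat

/-!
# Torsion modules fixed by Frobenius base change
-/

set_option autoImplicit false
set_option linter.style.haveILetI false
set_option backward.isDefEq.respectTransparency false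

universe u

open CategoryTheory IsLocalRing
open scoped TensorProduct

namespace Groth.Agent.H4FrobFixed

section BaseChange

variable {R S : Type u} [CommRing R] [CommRing S] [Algebra R S] [Module.Flat R S]

/-- `(S ⊗ M)[J S] = S ⊗ M[J]`. -/
theorem nonempty_torsionBy_baseChange (J : Ideal R) (hJ : J.FG) (M : Type u) [AddCommGroup M] [Module R M] :
    Nonempty (S ⊗[R] (LocCoh.torsionBy J M) ≃ₗ[S]
      LocCoh.torsionBy (J.map (algebraMap R S)) (S ⊗[R] M)) := by
  classical
  obtain ⟨n, g, hg⟩ := Submodule.fg_iff_exists_fin_generating_family.1 hJ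
  let T := LocCoh.torsionBy J M
  let μ : M →ₗ[R] (Fin n → M) := LinearMap.pi fun k => LinearMap.lsmul R M (g k)
  have hex : Function.Exact T.subtype μ := fun m => by
    constructor
    · intro hm
      refine ⟨⟨m, (Submodule.mem_torsionBySet_iff _ _).2 fun a => ?_⟩, rfl⟩
      have hle : J ≤ LinearMap.ker (LinearMap.toSpanSingleton R M m) := by
        rw [← hg, Submodule.span_le]
        rintro _ ⟨k, rfl⟩
        exact congrFun hm k
      exact hle a.2
    · rintro ⟨t, rfl⟩
      funext k
      exact (Submodule.mem_torsionBySet_iff _ _).1 t.2 ⟨g k, hg ▸ Submodule.subset_span ⟨k, rfl⟩⟩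
  let i : S ⊗[R] T →ₗ[S] S ⊗[R] M := T.subtype.baseChange S
  have hi : Function.Injective i :=
    Module.Flat.lTensor_preserves_injective_linearMap (M := S) T.subtype (Submodule.injective_subtype T)
  have hrange : LinearMap.range i = LocCoh.torsionBy (J.map (algebraMap R S)) (S ⊗[R] M) := by
    refine le_antisymm ?_ fun z hz => ?_
    · rintro _ ⟨t, rfl⟩
      refine (Submodule.mem_torsionBySet_iff _ _).2 fun a => ?_
      have hle : J.map (algebraMap R S) ≤ LinearMap.ker (LinearMap.toSpanSingleton S _ (i t)) := by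
        refine Ideal.map_le_iff_le_comap.2 fun r hr => ?_
        show algebraMap R S r • i t = 0
        rw [← map_smul i, algebraMap_smul, show r • t = 0 from ?_, map_zero]
        induction t using TensorProduct.induction_on with
        | zero => rw [smul_zero]
        | tmul s x =>
          rw [← TensorProduct.tmul_smul, show r • x = 0 from
            Subtype.ext ((Submodule.mem_torsionBySet_iff _ _).1 x.2 ⟨r, hr⟩), TensorProduct.tmul_zero]
        | add x y hx hy => rw [smul_add, hx, hy, add_zero]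
      exact hle a.2
    · refine (lTensor_exact' S hex z).1 ?_
      apply (TensorProduct.piRight R R S (fun _ : Fin n => M)).injective
      funext k
      rw [map_zero, Pi.zero_apply]
      have hcomp : ∀ w : S ⊗[R] M,
          TensorProduct.piRight R R S (fun _ : Fin n => M) (LinearMap.lTensor S μ w) k = g k • w := fun w => by
        induction w using TensorProduct.induction_on with
        | zero => simp
        | tmul s x =>
          rw [LinearMap.lTensor_tmul, TensorProduct.piRight_apply, TensorProduct.piRightHom_tmul,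
            ← TensorProduct.tmul_smul]
          rfl
        | add x y hx hy => rw [map_add, map_add, Pi.add_apply, hx, hy, smul_add]
      rw [hcomp, ← algebraMap_smul S (g k)]
      exact (Submodule.mem_torsionBySet_iff _ _).1 hz
        ⟨_, Ideal.mem_map_of_mem _ (hg ▸ Submodule.subset_span ⟨k, rfl⟩)⟩
  exact ⟨(LinearEquiv.ofInjective i hi).trans (LinearEquiv.ofEq _ _ hrange)⟩
where
  lTensor_exact' (S : Type u) [AddCommGroup S] [Module R S] [Module.Flat R S] {A B C : Type u} [AddCommGroup A]
      [Module R A] [AddCommGroup B] [Module R B] [AddCommGroup C] [Module R C] {f : A →ₗ[R] B} {g : B →ₗ[R] C}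
      (h : Function.Exact f g) : Function.Exact (f.lTensor S) (g.lTensor S) :=
    Module.Flat.lTensor_exact S h

/-- Freeness of the torsion passes to the base change. -/
theorem nonempty_torsion_free (φ : R →+* S) (hφ : φ.Flat) {M : Type u} [AddCommGroup M] [Module R M]
    {N : Type u} [AddCommGroup N] [Module S N]
    (e : (ModuleCat.extendScalars φ).obj (ModuleCat.of R M) ≅ ModuleCat.of S N)
    (J : Ideal R) (hJ : J.FG) {ι : Type u} (b : LocCoh.torsionBy J M ≃ₗ[R] (ι →₀ R ⧸ J)) :
    Nonempty (LocCoh.torsionBy (J.map φ) N ≃ₗ[S] (ι →₀ S ⧸ J.map φ)) := by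
  classical
  letI := φ.toAlgebra
  haveI : Module.Flat R S := hφ
  let L : S ⊗[R] M ≃ₗ[S] N := e.toLinearEquiv
  obtain ⟨β⟩ := nonempty_torsionBy_baseChange (S := S) J hJ M
  let γ : LocCoh.torsionBy (J.map φ) (S ⊗[R] M) ≃ₗ[S] LocCoh.torsionBy (J.map φ) N :=
    L.ofSubmodules _ _ (by
      refine le_antisymm ?_ fun z hz => ?_
      · rintro _ ⟨x, hx, rfl⟩
        refine (Submodule.mem_torsionBySet_iff _ _).2 fun a => ?_
        rw [← map_smul, (Submodule.mem_torsionBySet_iff _ _).1 hx a, map_zero]
      · refine ⟨L.symm z, (Submodule.mem_torsionBySet_iff _ _).2 fun a => ?_, L.apply_symm_apply z⟩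
        rw [← map_smul, (Submodule.mem_torsionBySet_iff _ _).1 hz a, map_zero])
  exact ⟨γ.symm.trans (β.symm.trans ((TensorProduct.AlgebraTensorModule.congr (LinearEquiv.refl S S) b).trans
    ((TensorProduct.finsuppRight R S S (R ⧸ J) ι).trans
      (Finsupp.mapRange.linearEquiv (Algebra.TensorProduct.quotIdealMapEquivTensorQuot S J).symm.toLinearEquiv))))⟩

end BaseChange

variable {R : Type u} [CommRing R]

/-- The iterated images of `J` under `φ`. -/
def iterMap (φ : R →+* R) (J : Ideal R) : ℕ → Ideal R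
  | 0 => J
  | e + 1 => (iterMap φ J e).map φ

theorem exists_seq (φ : R →+* R) (hφ : φ.Flat) {rs : List R}
    (hreg : RingTheory.Sequence.IsWeaklyRegular R rs) :
    ∀ e : ℕ, ∃ l : List R, RingTheory.Sequence.IsWeaklyRegular R l ∧ Ideal.ofList l = iterMap φ (Ideal.ofList rs) e
  | 0 => ⟨rs, hreg, rfl⟩
  | e + 1 => by
    obtain ⟨l, hl, hlJ⟩ := exists_seq φ hφ hreg e
    exact ⟨l.map φ, weaklyRegular_map φ hφ hl, by rw [iterMap, ← hlJ, Ideal.map_ofList]⟩
where
  weaklyRegular_map {A B : Type u} [CommRing A] [CommRing B] (ψ : A →+* B) (hψ : ψ.Flat) {l : List A}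
      (hl : RingTheory.Sequence.IsWeaklyRegular A l) : RingTheory.Sequence.IsWeaklyRegular B (l.map ψ) := by
    letI := ψ.toAlgebra
    haveI : Module.Flat A B := hψ
    exact hl.of_flat

theorem fixed_eq_direct_sum (p : ℕ) [Fact p.Prime] [IsRegularLocalRing R] [CharP R p]
    {E : Type u} [AddCommGroup E] [Module R E] {f : ResidueField R →ₗ[R] E} (hf : InjHull.IsInjectiveHull f)
    {M : Type u} [AddCommGroup M] [Module R M] (hM : LocCoh.IsPowerTorsion (maximalIdeal R) M)
    (e : (ModuleCat.extendScalars (frobenius R p)).obj (ModuleCat.of R M) ≅ ModuleCat.of R M) :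
    ∃ ι : Type u, Nonempty (M ≃ₗ[R] (ι →₀ E)) := by
  classical
  let φ := frobenius R p
  have hφ : φ.Flat := H4Frob.frobenius_flat_of_regularLocal p R
  obtain ⟨d, x, hd, hx⟩ := H4Depth.exists_regular_system_of_parameters R
  have hrs := (H4Depth.isRegular_ofFn_of_span_eq d hd x hx).1
  have h0 : Ideal.ofList (List.ofFn x) = maximalIdeal R := by
    rw [← hx, Ideal.ofList]
    congr 1
    ext r
    simp [List.mem_ofFn]
  let J : ℕ → Ideal R := iterMap φ (maximalIdeal R)
  let k := R ⧸ maximalIdeal R
  letI : Field k := Ideal.Quotient.field _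
  let T := LocCoh.torsionBy (maximalIdeal R) M
  let ι := Module.Free.ChooseBasisIndex k T
  let b0 : T ≃ₗ[R] (ι →₀ k) := (Module.Free.chooseBasis k T).repr.restrictScalars R
  have hfree : ∀ n, Nonempty (LocCoh.torsionBy (J n) M ≃ₗ[R] (ι →₀ R ⧸ J n)) := fun n => by
    induction n with
    | zero => exact ⟨b0⟩
    | succ n ih => exact nonempty_torsion_free φ hφ e (J n) (IsNoetherian.noetherian _) ih.some
  have hJm : ∀ n, J n ≤ maximalIdeal R ^ (n + 1) := fun n => by
    induction n with
    | zero => exact (pow_one _).ge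
    | succ n ih =>
      refine (Ideal.map_mono ih).trans (Ideal.map_le_iff_le_comap.2 fun a ha => ?_)
      show frobenius R p a ∈ maximalIdeal R ^ (n + 1 + 1)
      rw [frobenius_def]
      refine Ideal.pow_le_pow_right ?_ ((pow_mul (maximalIdeal R) (n + 1) p).ge (Ideal.pow_mem_pow ha p))
      calc n + 1 + 1 ≤ (n + 1) * 2 := by omega
        _ ≤ (n + 1) * p := Nat.mul_le_mul_left _ (Fact.out : p.Prime).two_le
  have hJm' : ∀ n, J n ≤ maximalIdeal R := fun n => (hJm n).trans (Ideal.pow_le_self n.succ_ne_zero)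
  have hrad : ∀ n, maximalIdeal R ≤ (J n).radical := fun n => by
    induction n with
    | zero => exact Ideal.le_radical
    | succ n ih =>
      intro a ha
      obtain ⟨c, hc⟩ := ih ha
      exact ⟨c * p, by rw [pow_mul]; exact frobenius_def (R := R) p (a ^ c) ▸ Ideal.mem_map_of_mem φ hc⟩
  have hQ : ∀ n, Module.Injective (R ⧸ J n) (R ⧸ J n) := fun n => by
    obtain ⟨l, hl, hlJ⟩ := exists_seq φ hφ hrs n
    rw [h0] at hlJ
    have hG : LocCoh.IsGorensteinLocalRing (R ⧸ J n) := by
      have := H02CA.GorFlat.gor_quot_list (H4Goren.isGorensteinLocalRing_of_isRegularLocalRing R) l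
        (fun r hr => hJm' n (show r ∈ iterMap φ (maximalIdeal R) n by rw [← hlJ]; exact Ideal.subset_span hr)) hl
      rwa [hlJ] at this
    haveI := hG
    refine Module.Baer.injective (H4Goren.baer_self_of_dim_zero _ ?_)
    refine Ring.krullDimLE_iff.1 (Ring.krullDimLE_zero_iff.2 fun I hI => ?_)
    have hP : (I.comap (Ideal.Quotient.mk (J n))).IsPrime := inferInstance
    have hle : maximalIdeal R ≤ I.comap (Ideal.Quotient.mk (J n)) := fun r hr => by
      obtain ⟨c, hc⟩ := hrad n hr
      exact hP.mem_of_pow_mem c (Ideal.mem_comap.2 ((Ideal.Quotient.eq_zero_iff_mem.2 hc).symm ▸ I.zero_mem))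
    have hmax : (I.comap (Ideal.Quotient.mk (J n))).IsMaximal :=
      (le_antisymm hle (IsLocalRing.le_maximalIdeal hP.ne_top)) ▸ maximalIdeal.isMaximal _
    rw [← Ideal.map_comap_of_surjective _ Ideal.Quotient.mk_surjective I]
    exact (Ideal.map_eq_top_or_isMaximal_of_surjective _ Ideal.Quotient.mk_surjective hmax).resolve_left
      (fun h => hI.ne_top (by rwa [Ideal.map_comap_of_surjective _ Ideal.Quotient.mk_surjective] at h))
  haveI : Module.Injective R E := hf.isInjective
  haveI : Module.Injective R (ι →₀ E) := H4DR.FlatBC.injective_finsupp ι E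
  obtain ⟨g, hg⟩ := Module.Injective.extension_property R (ι →₀ E) T M T.subtype Subtype.val_injective
    (Finsupp.mapRange.linearMap f ∘ₗ b0.toLinearMap)
  have hgT : ∀ t : T, g t = Finsupp.mapRange.linearMap f (b0 t) := fun t => LinearMap.congr_fun hg t
  have hinj : Function.Injective g := by
    rw [← LinearMap.ker_eq_bot, Submodule.eq_bot_iff]
    intro z hz
    by_contra hz0
    obtain ⟨r, hr, hr0⟩ := H4Matlis.exists_least_torsion hM hz0
    have h1 : Finsupp.mapRange.linearMap f (b0 ⟨r • z, hr⟩) = 0 := by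
      rw [← hgT]
      show g (r • z) = 0
      rw [map_smul, LinearMap.mem_ker.1 hz, smul_zero]
    have h2 : b0 ⟨r • z, hr⟩ = 0 := Finsupp.mapRange_injective f (map_zero f) hf.injective
      (h1.trans (map_zero (Finsupp.mapRange.linearMap (α := ι) f)).symm)
    exact hr0 (congrArg Subtype.val (b0.injective (h2.trans b0.map_zero.symm)))
  have hEtor := H4Matlis.isPowerTorsion hf
  have htor : LocCoh.IsPowerTorsion (maximalIdeal R) (ι →₀ E) := fun y => by
    choose c hc using fun i => hEtor (y i)
    refine ⟨y.support.sup c, fun a ha => Finsupp.ext fun i => ?_⟩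
    rw [Finsupp.smul_apply, Finsupp.zero_apply]
    by_cases hi : i ∈ y.support
    · exact hc i a (Ideal.pow_le_pow_right (Finset.le_sup hi) ha)
    · rw [Finsupp.notMem_support_iff.1 hi, smul_zero]
  have hsoc : ∀ w ∈ LocCoh.torsionBy (maximalIdeal R) (ι →₀ E), ∃ t : T, g t = w := fun w hw => by
    have hw' : ∀ i, w i ∈ LinearMap.range f := fun i => by
      by_cases h : w i = 0
      · exact ⟨0, (map_zero f).trans h.symm⟩
      · obtain ⟨v, hv, hv0⟩ := (Submodule.ne_bot_iff _).1
          (hf.toIsEssentialInj.2 (R ∙ w i) (fun hb => h (Submodule.span_singleton_eq_bot.1 hb)))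
        obtain ⟨r, rfl⟩ := Submodule.mem_span_singleton.1 hv.1
        have hu : IsUnit r := by
          by_contra hu
          refine hv0 ?_
          rw [← Finsupp.smul_apply, (Submodule.mem_torsionBySet_iff _ _).1 hw ⟨r, (mem_maximalIdeal r).2 hu⟩,
            Finsupp.zero_apply]
        exact (Submodule.smul_mem_iff_of_isUnit _ hu).1 hv.2
    choose c hc using hw'
    refine ⟨b0.symm (Finsupp.onFinset w.support c fun i hi => ?_), ?_⟩
    · rw [Finsupp.mem_support_iff]
      intro h
      exact hi (hf.injective ((hc i).trans (h.trans (map_zero f).symm)))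
    · rw [hgT, LinearEquiv.apply_symm_apply]
      exact Finsupp.ext fun i => hc i
  refine ⟨ι, ⟨LinearEquiv.ofBijective g ⟨hinj, fun y => ?_⟩⟩⟩
  obtain ⟨n, hn⟩ := htor y
  let Q := R ⧸ J n
  let U := LocCoh.torsionBy (J n) M
  let W := LocCoh.torsionBy (J n) (ι →₀ E)
  have hy : y ∈ W := (Submodule.mem_torsionBySet_iff _ _).2 fun a =>
    hn a (Ideal.pow_le_pow_right n.le_succ (hJm n a.2))
  let j : U →ₗ[Q] W :=
    { toFun := fun u => ⟨g u, (Submodule.mem_torsionBySet_iff _ _).2 fun a => by
        rw [← map_smul, (Submodule.mem_torsionBySet_iff _ _).1 u.2 a, map_zero]⟩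
      map_add' := fun u v => Subtype.ext (map_add g _ _)
      map_smul' := fun c u => by
        obtain ⟨c, rfl⟩ := Ideal.Quotient.mk_surjective c
        exact Subtype.ext (map_smul g c _) }
  have hj : Function.Injective j := fun u v h => Subtype.ext (hinj (congrArg Subtype.val h))
  obtain ⟨bn⟩ := hfree n
  let bQ : U ≃ₗ[Q] (ι →₀ Q) :=
    { bn with
      map_smul' := fun c u => by
        obtain ⟨c, rfl⟩ := Ideal.Quotient.mk_surjective c
        exact (bn.map_smul c u).trans (Finsupp.ext fun i => by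
          rw [Finsupp.smul_apply, RingHom.id_apply, Finsupp.smul_apply]; rfl) }
  haveI := hQ n
  haveI : Module.Injective Q (ι →₀ Q) := H4DR.FlatBC.injective_finsupp ι Q
  obtain ⟨ρ, hρ⟩ := Module.Injective.extension_property Q (ι →₀ Q) U W j hj bQ.toLinearMap
  let π : W → U := fun w => bQ.symm (ρ w)
  have hπ : ∀ u : U, π (j u) = u := fun u => by
    show bQ.symm (ρ (j u)) = u
    rw [show ρ (j u) = bQ u from LinearMap.congr_fun hρ u, bQ.symm_apply_apply]
  by_contra hne
  let z : W := ⟨y, hy⟩ - j (π ⟨y, hy⟩)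
  have hz : z ≠ 0 := fun h => hne ⟨(π ⟨y, hy⟩ : M), (congrArg Subtype.val (sub_eq_zero.1 h)).symm⟩
  obtain ⟨r, hr, hr0⟩ := H4Matlis.exists_least_torsion htor (x := (z : ι →₀ E)) (fun h => hz (Subtype.ext h))
  obtain ⟨t, ht⟩ := hsoc _ hr
  let u : U := ⟨(t : M), (Submodule.mem_torsionBySet_iff _ _).2 fun a =>
    (Submodule.mem_torsionBySet_iff _ _).1 t.2 ⟨a, hJm' n a.2⟩⟩
  have hu : j u = (Ideal.Quotient.mk (J n) r) • z := Subtype.ext ht
  have hπz : ρ z = 0 := by
    rw [show z = ⟨y, hy⟩ - j (π ⟨y, hy⟩) from rfl, map_sub,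
      show ρ (j (π ⟨y, hy⟩)) = bQ (π ⟨y, hy⟩) from LinearMap.congr_fun hρ _]
    show ρ _ - bQ (bQ.symm (ρ _)) = 0
    rw [bQ.apply_symm_apply, sub_self]
  have hu0 : u = 0 := bQ.injective (by
    rw [map_zero, show bQ u = ρ (j u) from (LinearMap.congr_fun hρ u).symm, hu, map_smul, hπz, smul_zero])
  refine hr0 ?_
  have := congrArg Subtype.val hu
  rw [hu0, map_zero] at this
  exact this.symm

end Groth.Agent.H4FrobFixed
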